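import Cfsg.Agent.H891.DG.Defs

/-!
# S4180: Gaschütz' lemma on generators (helper285)

* `gaschutz` : generators of `E/N` lift to generators of a 2-generated group `E`;
* `cos2_of` : `Cos2 T` if all the subgroups of `Aut T` above `Inn T` are 2-generated.
-/

set_option autoImplicit false
set_option linter.unusedSectionVars false

namespace Cfsg.Agent.H285.DG

open Cfsg.Agent.H440.TwoGen Cfsg.Agent.H891.Gen Cfsg.Agent.H891.DG Subgroup

universe u

section

variable {E : Type*} [Group E] [Fintype E]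

open Classical in
/-- the pairs `(s, t)` in `N` with `⟨x s, y t⟩ = L` -/
noncomputable def pp (N : Subgroup E) (x y : E) (L : Subgroup E) : Finset (E × E) :=
  Finset.univ.filter fun p => p.1 ∈ N ∧ p.2 ∈ N ∧ closure ({x * p.1, y * p.2} : Set E) = L

open Classical in
/-- the pairs `(s, t)` in `N` with `x s, y t ∈ L` -/
noncomputable def aa (N : Subgroup E) (x y : E) (L : Subgroup E) : Finset (E × E) :=
  Finset.univ.filter fun p => p.1 ∈ N ∧ p.2 ∈ N ∧ x * p.1 ∈ L ∧ y * p.2 ∈ L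

theorem mem_pp {N : Subgroup E} {x y : E} {L : Subgroup E} {p : E × E} :
    p ∈ pp N x y L ↔ p.1 ∈ N ∧ p.2 ∈ N ∧ closure ({x * p.1, y * p.2} : Set E) = L := by
  classical
  simp only [pp, Finset.mem_filter, Finset.mem_univ, true_and]

theorem mem_aa {N : Subgroup E} {x y : E} {L : Subgroup E} {p : E × E} :
    p ∈ aa N x y L ↔ p.1 ∈ N ∧ p.2 ∈ N ∧ x * p.1 ∈ L ∧ y * p.2 ∈ L := by
  classical
  simp only [aa, Finset.mem_filter, Finset.mem_univ, true_and]

theorem exists_mul_mem {N L : Subgroup E} [N.Normal] (h : L ⊔ N = ⊤) (x : E) : ∃ s ∈ N, x * s ∈ L := by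
  have h1 : x ∈ L ⊔ N := by rw [h]; trivial
  obtain ⟨l, hl, n, hn, rfl⟩ := mem_sup_of_normal_right.1 h1
  exact ⟨n⁻¹, inv_mem hn, by rwa [mul_inv_cancel_right]⟩

theorem card_aa_le {N L : Subgroup E} [N.Normal] (h : L ⊔ N = ⊤) (x y x' y' : E) :
    (aa N x y L).card ≤ (aa N x' y' L).card := by
  obtain ⟨s, hs, hsL⟩ := exists_mul_mem h x
  obtain ⟨t, ht, htL⟩ := exists_mul_mem h y
  obtain ⟨s', hs', hsL'⟩ := exists_mul_mem h x'
  obtain ⟨t', ht', htL'⟩ := exists_mul_mem h y'
  refine Finset.card_le_card_of_injOn (fun p => (s' * (s⁻¹ * p.1), t' * (t⁻¹ * p.2))) ?_ ?_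
  · intro p hp
    obtain ⟨h1, h2, h3, h4⟩ := mem_aa.1 (Finset.mem_coe.1 hp)
    refine Finset.mem_coe.2 (mem_aa.2 ⟨mul_mem hs' (mul_mem (inv_mem hs) h1), mul_mem ht' (mul_mem (inv_mem ht) h2), ?_, ?_⟩)
    · have h5 : x' * (s' * (s⁻¹ * p.1)) = (x' * s') * ((x * s)⁻¹ * (x * p.1)) := by group
      show x' * (s' * (s⁻¹ * p.1)) ∈ L
      rw [h5]
      exact mul_mem hsL' (mul_mem (inv_mem hsL) h3)
    · have h5 : y' * (t' * (t⁻¹ * p.2)) = (y' * t') * ((y * t)⁻¹ * (y * p.2)) := by group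
      show y' * (t' * (t⁻¹ * p.2)) ∈ L
      rw [h5]
      exact mul_mem htL' (mul_mem (inv_mem htL) h4)
  · intro p _ q _ hpq
    have h1 : s' * (s⁻¹ * p.1) = s' * (s⁻¹ * q.1) := congrArg Prod.fst hpq
    have h2 : t' * (t⁻¹ * p.2) = t' * (t⁻¹ * q.2) := congrArg Prod.snd hpq
    exact Prod.ext (mul_left_cancel (mul_left_cancel h1)) (mul_left_cancel (mul_left_cancel h2))

open Classical in
theorem card_aa_eq (N : Subgroup E) (x y : E) (L : Subgroup E) :
    (aa N x y L).card = ∑ M ∈ Finset.univ.filter (fun M : Subgroup E => M ≤ L), (pp N x y M).card := by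
  have h1 : ∀ p ∈ aa N x y L, closure ({x * p.1, y * p.2} : Set E) ∈
      Finset.univ.filter (fun M : Subgroup E => M ≤ L) := by
    intro p hp
    obtain ⟨-, -, h3, h4⟩ := mem_aa.1 hp
    rw [Finset.mem_filter]
    refine ⟨Finset.mem_univ _, ?_⟩
    rw [closure_le]
    rintro z (rfl | rfl)
    · exact h3
    · exact h4
  rw [Finset.card_eq_sum_card_fiberwise h1]
  refine Finset.sum_congr rfl fun M hM => ?_
  congr 1
  ext p
  rw [Finset.mem_filter, mem_aa, mem_pp]
  have hML : M ≤ L := (Finset.mem_filter.1 hM).2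
  constructor
  · rintro ⟨⟨h2, h3, -, -⟩, h4⟩
    exact ⟨h2, h3, h4⟩
  · rintro ⟨h2, h3, h4⟩
    refine ⟨⟨h2, h3, ?_, ?_⟩, h4⟩
    · apply hML
      rw [← h4]
      exact subset_closure (Or.inl rfl)
    · apply hML
      rw [← h4]
      exact subset_closure (Or.inr rfl)

theorem pp_sup {N : Subgroup E} {x y : E} (hxy : closure ({x, y} : Set E) ⊔ N = ⊤) {M : Subgroup E}
    (h : (pp N x y M).card ≠ 0) : M ⊔ N = ⊤ := by
  obtain ⟨p, hp⟩ := Finset.card_ne_zero.1 h
  obtain ⟨h1, h2, h3⟩ := mem_pp.1 hp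
  rw [eq_top_iff, ← hxy]
  refine sup_le ?_ le_sup_right
  rw [closure_le]
  have h4 : x * p.1 ∈ M := by rw [← h3]; exact subset_closure (Or.inl rfl)
  have h5 : y * p.2 ∈ M := by rw [← h3]; exact subset_closure (Or.inr rfl)
  rintro z (rfl | rfl)
  · have h6 : z = z * p.1 * (p.1)⁻¹ := by group
    rw [h6]
    exact mul_mem (mem_sup_left h4) (inv_mem (mem_sup_right h1))
  · have h6 : z = z * p.2 * (p.2)⁻¹ := by group
    rw [h6]
    exact mul_mem (mem_sup_left h5) (inv_mem (mem_sup_right h2))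

theorem card_pp_eq {N : Subgroup E} [N.Normal] {x y x' y' : E} (hxy : closure ({x, y} : Set E) ⊔ N = ⊤)
    (hxy' : closure ({x', y'} : Set E) ⊔ N = ⊤) (L : Subgroup E) : (pp N x y L).card = (pp N x' y' L).card := by
  classical
  induction hn : Nat.card L using Nat.strong_induction_on generalizing L with
  | _ n ih =>
  subst hn
  by_cases hL : L ⊔ N = ⊤
  · have h1 := card_aa_eq N x y L
    have h2 := card_aa_eq N x' y' L
    have h3 : (aa N x y L).card = (aa N x' y' L).card := le_antisymm (card_aa_le hL _ _ _ _) (card_aa_le hL _ _ _ _)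
    have hmem : L ∈ Finset.univ.filter (fun M : Subgroup E => M ≤ L) :=
      Finset.mem_filter.2 ⟨Finset.mem_univ _, le_rfl⟩
    rw [← Finset.add_sum_erase _ _ hmem] at h1 h2
    have h4 : ∑ M ∈ (Finset.univ.filter (fun M : Subgroup E => M ≤ L)).erase L, (pp N x y M).card =
        ∑ M ∈ (Finset.univ.filter (fun M : Subgroup E => M ≤ L)).erase L, (pp N x' y' M).card := by
      refine Finset.sum_congr rfl fun M hM => ?_
      obtain ⟨h5, h6⟩ := Finset.mem_erase.1 hM
      have h7 : M ≤ L := (Finset.mem_filter.1 h6).2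
      refine ih (Nat.card M) ?_ M rfl
      exact lt_of_le_of_ne (Subgroup.card_le_of_le h7) fun h8 => h5 (eq_of_le_of_card_ge h7 h8.ge)
    omega
  · have h1 : (pp N x y L).card = 0 := by
      by_contra h
      exact hL (pp_sup hxy h)
    have h2 : (pp N x' y' L).card = 0 := by
      by_contra h
      exact hL (pp_sup hxy' h)
    rw [h1, h2]

end

/-- **Gaschütz' lemma** for two generators. -/
theorem gaschutz {E : Type*} [Group E] [Finite E] {N : Subgroup E} [N.Normal] (h : TwoGen E) {x y : E}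
    (hxy : closure ({x, y} : Set E) ⊔ N = ⊤) : ∃ s ∈ N, ∃ t ∈ N, closure ({x * s, y * t} : Set E) = ⊤ := by
  have : Fintype E := Fintype.ofFinite E
  obtain ⟨a, b, hab⟩ := h
  have h1 : (pp N a b ⊤).card ≠ 0 := by
    rw [Finset.card_ne_zero]
    refine ⟨(1, 1), mem_pp.2 ⟨one_mem _, one_mem _, ?_⟩⟩
    rw [mul_one, mul_one]
    exact hab
  rw [card_pp_eq (x' := x) (y' := y) (by rw [hab, top_sup_eq]) hxy] at h1
  obtain ⟨p, hp⟩ := Finset.card_ne_zero.1 h1
  obtain ⟨h2, h3, h4⟩ := mem_pp.1 hp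
  exact ⟨p.1, h2, p.2, h3, h4⟩

/-- lifts in the subgroup generated -/
theorem lift_of {A : Type*} [Group A] [Finite A] {N : Subgroup A} [N.Normal] {x y : A}
    (h : TwoGen ↥(closure ({x, y} : Set A) ⊔ N)) : Lift N x y := by
  set S : Subgroup A := closure ({x, y} : Set A) ⊔ N with hS
  have hx : x ∈ S := mem_sup_left (subset_closure (Or.inl rfl))
  have hy : y ∈ S := mem_sup_left (subset_closure (Or.inr rfl))
  have hNS : N ≤ S := le_sup_right
  have key : closure ({(⟨x, hx⟩ : ↥S), ⟨y, hy⟩} : Set ↥S) ⊔ N.subgroupOf S = ⊤ := by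
    apply Subgroup.map_injective S.subtype_injective
    rw [Subgroup.map_sup, MonoidHom.map_closure, ← MonoidHom.range_eq_map, Subgroup.range_subtype,
      Subgroup.map_subgroupOf_eq_of_le hNS, Set.image_pair]
    rfl
  obtain ⟨s, hs, t, ht, hst⟩ := gaschutz h key
  refine ⟨s, mem_subgroupOf.1 hs, t, mem_subgroupOf.1 ht, ?_⟩
  have h1 := congrArg (Subgroup.map S.subtype) hst
  rw [MonoidHom.map_closure, ← MonoidHom.range_eq_map, Subgroup.range_subtype, Set.image_pair] at h1
  have h2 : closure ({x * (s : A), y * (t : A)} : Set A) = S := h1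
  rw [h2]
  exact hNS

/-- **`Cos2` from 2-generation.** -/
theorem cos2_of {T : Type u} [Group T] [Finite T]
    (h : ∀ S : Subgroup (MulAut T), (MulAut.conj : T →* MulAut T).range ≤ S → TwoGen ↥S) : Cos2 T := by
  intro x y
  have hn : ((MulAut.conj : T →* MulAut T).range).Normal := inferInstance
  exact lift_of (h _ le_sup_right)

end Cfsg.Agent.H285.DG
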